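import Groth.Agent.PurityDescLib.Scheme

/-! # Descent of extensions along faithfully flat maps with invisible trace -/

set_option autoImplicit false
set_option linter.style.haveILetI false
set_option backward.isDefEq.respectTransparency false
set_option backward.isDefEq.respectTransparency.types false
set_option maxHeartbeats 1000000

universe u

open CategoryTheory CategoryTheory.Limits AlgebraicGeometry
open scoped TensorProduct

noncomputable section

namespace PSPurity

open PurityDescLib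

variable {A Ah : Type u} [CommRing A] [CommRing Ah] [Algebra A Ah] [IsNoetherianRing A]
  [Module.FaithfullyFlat A Ah] (U : (Spec (CommRingCat.of A)).Opens)

/-- Descent of extensions, for the morphisms. -/
theorem exists_isPullback_of_extends
    {W T U' W' : Scheme.{u}} (p : W ⟶ U) (hp : FEt.prop p) (y : T ⟶ Spec (CommRingCat.of Ah)) (hy : FEt.prop y)
    {r : U' ⟶ U} {s : U' ⟶ Spec (CommRingCat.of Ah)}
    (sU : IsPullback r s U.ι (Spec.map (CommRingCat.ofHom (algebraMap A Ah))))
    {a : W' ⟶ W} {b : W' ⟶ U'} (sW : IsPullback a b p r) {j : W' ⟶ T} (sqj : IsPullback j b y s)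
    (hbij : Function.Bijective j.appTop) :
    ∃ (Z : Scheme.{u}) (z : Z ⟶ Spec (CommRingCat.of A)) (k : W ⟶ Z), FEt.prop z ∧ IsPullback k p z U.ι := by
  let g : Spec (CommRingCat.of Ah) ⟶ Spec (CommRingCat.of A) := Spec.map (CommRingCat.ofHom (algebraMap A Ah))
  let φA : CommRingCat.of A ⟶ CommRingCat.of Ah := CommRingCat.ofHom (algebraMap A Ah)
  have hφ : φA.hom.FaithfullyFlat := (RingHom.faithfullyFlat_algebraMap_iff).2 inferInstance
  haveI : Flat g := (HasRingHomProperty.Spec_iff (P := @Flat)).mpr hφ.flat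
  haveI : Surjective g := ⟨PrimeSpectrum.comap_surjective_of_faithfullyFlat (A := A) (B := Ah)⟩
  haveI : IsFinite p := hp.1
  haveI : IsFinite y := hy.1
  haveI : CompactSpace (U : Scheme.{u}) := isCompact_iff_compactSpace.mp (TopologicalSpace.NoetherianSpace.isCompact _)
  haveI : CompactSpace W := QuasiCompact.compactSpace_of_compactSpace p
  let f : W ⟶ Spec (CommRingCat.of A) := p ≫ U.ι
  haveI : QuasiSeparatedSpace W := quasiSeparatedSpace_of_quasiSeparated f
  haveI : QuasiCompact f := quasiCompact_of_compactSpace f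
  have sq : IsPullback a (b ≫ s) f g := sW.paste_vert sU
  have hpo := H0Lib.isPushout_ring sq hφ.flat
  let iS : CommRingCat.of A ⟶ CommRingCat.of Γ(W, ⊤) := (Scheme.ΓSpecIso _).inv ≫ f.appTop
  letI : Algebra A Γ(W, ⊤) := iS.hom.toAlgebra
  obtain ⟨e, he⟩ := AlgSpLib.exists_tensor_equiv (R := A) (S := Ah) (R' := Γ(W, ⊤))
    (D := Γ(W', ⊤)) (a := φA) (b := iS) hpo.flip rfl rfl
  -- the affine scheme over the completion
  haveI : IsAffine T := isAffine_of_isAffineHom y
  let iB : CommRingCat.of Ah ⟶ CommRingCat.of Γ(T, ⊤) := (Scheme.ΓSpecIso _).inv ≫ y.appTop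
  letI : Algebra Ah Γ(T, ⊤) := iB.hom.toAlgebra
  letI : Algebra A Γ(T, ⊤) := (φA ≫ iB).hom.toAlgebra
  haveI : IsScalarTower A Ah Γ(T, ⊤) := IsScalarTower.of_algebraMap_eq fun _ => rfl
  haveI : IsOpenImmersion s := MorphismProperty.of_isPullback sU (inferInstanceAs (IsOpenImmersion U.ι))
  haveI : IsOpenImmersion j := MorphismProperty.of_isPullback sqj.flip (inferInstanceAs (IsOpenImmersion s))
  haveI : QuasiCompact a := MorphismProperty.of_isPullback sq.flip (inferInstanceAs (QuasiCompact g))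
  haveI : QuasiSeparated a := MorphismProperty.of_isPullback sq.flip (inferInstanceAs (QuasiSeparated g))
  haveI : CompactSpace W' := QuasiCompact.compactSpace_of_compactSpace a
  haveI : QuasiSeparatedSpace W' := quasiSeparatedSpace_of_quasiSeparated a
  have hj : ∀ c : Ah, j.appTop (iB c) = ((Scheme.ΓSpecIso _).inv ≫ (b ≫ s).appTop) c := by
    intro c
    rw [← sqj.w, Scheme.Hom.comp_appTop]
    rfl
  have he1 : ∀ c : Ah, e (c ⊗ₜ 1) = j.appTop (iB c) := by
    intro c
    rw [he, map_one, mul_one, hj]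
  let βr : Γ(T, ⊤) →+* Ah ⊗[A] Γ(W, ⊤) := e.symm.toRingHom.comp j.appTop.hom
  let β : Γ(T, ⊤) →ₐ[Ah] Ah ⊗[A] Γ(W, ⊤) :=
    { βr with commutes' := fun c => e.injective ((e.apply_symm_apply _).trans (he1 c).symm) }
  have hβ : ∀ x, e (β x) = j.appTop x := fun x => e.apply_symm_apply _
  have hβbij : Function.Bijective β := e.symm.bijective.comp hbij
  have hy' : T.isoSpec.hom ≫ Spec.map iB = y := toSpec_appTop y
  have hy'' : FEt.prop (Spec.map iB) := by
    have h : Spec.map iB = T.isoSpec.inv ≫ y := (Iso.eq_inv_comp _).2 hy'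
    rw [h]
    exact MorphismProperty.comp_mem _ _ _ ⟨inferInstance, inferInstance⟩ hy
  haveI : Module.Finite Ah Γ(T, ⊤) := RingHom.finite_algebraMap.mp ((IsFinite.SpecMap_iff iB).mp hy''.1)
  haveI : Algebra.Etale Ah Γ(T, ⊤) :=
    RingHom.etale_algebraMap.mp ((HasRingHomProperty.Spec_iff (P := @Etale)).mp hy''.2)
  let c : Ah ⊗[A] Γ(W, ⊤) ≃ₐ[Ah] Γ(T, ⊤) := (AlgEquiv.ofBijective β hβbij).symm
  haveI : Module.Finite Ah (Ah ⊗[A] Γ(W, ⊤)) := Module.Finite.equiv c.symm.toLinearEquiv
  haveI : Algebra.Etale Ah (Ah ⊗[A] Γ(W, ⊤)) := Algebra.Etale.of_equiv c.symm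
  haveI : Module.Finite A Γ(W, ⊤) := Module.Finite.of_finite_tensorProduct_of_faithfullyFlat Ah
  haveI : Algebra.Etale A Γ(W, ⊤) := Algebra.Etale.of_etale_tensorProduct_of_faithfullyFlat Ah
  let M : CommRingCat.{u} := CommRingCat.of Γ(W, ⊤)
  let iM : CommRingCat.of A ⟶ M := iS
  let iMS : M ⟶ CommRingCat.of Γ(W, ⊤) := 𝟙 _
  let iMB : M ⟶ CommRingCat.of Γ(T, ⊤) :=
    CommRingCat.ofHom (c.toRingHom.comp
      (Algebra.TensorProduct.includeRight : Γ(W, ⊤) →ₐ[A] Ah ⊗[A] Γ(W, ⊤)).toRingHom)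
  have hM : FEt.prop (Spec.map iM) :=
    ⟨(IsFinite.SpecMap_iff _).mpr (RingHom.finite_algebraMap.mpr inferInstance),
      (HasRingHomProperty.Spec_iff (P := @Etale)).mpr (RingHom.etale_algebraMap.mpr inferInstance)⟩
  have hpoM : IsPushout φA iM (CommRingCat.ofHom (algebraMap Ah Γ(T, ⊤))) iMB :=
    (CommRingCat.isPushout_tensorProduct A Ah Γ(W, ⊤)).of_iso (Iso.refl _) (Iso.refl _) (Iso.refl _)
      c.toRingEquiv.toCommRingCatIso (by simp [φA]) (by simp [iM]; rfl)
      (CommRingCat.hom_ext (RingHom.ext fun x => c.commutes x)) (CommRingCat.hom_ext (RingHom.ext fun x => rfl))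
  have hMS : iM ≫ iMS = iS := Category.comp_id _
  have hMβ : ∀ x, (1 : Ah) ⊗ₜ[A] iMS.hom x = β (iMB.hom x) := fun x =>
    ((AlgEquiv.ofBijective β hβbij).apply_symm_apply _).symm
  let q : T ⟶ Spec M := toSpec T iMB
  have sqq : IsPullback q y (Spec.map iM) g := by
    have h1 : IsPullback (Spec.map iMB) (Spec.map iB) (Spec.map iM) g :=
      isPullback_SpecMap_of_isPushout _ _ _ _ hpoM.flip
    have h2 : IsPullback T.isoSpec.hom y (Spec.map iB) (𝟙 _) :=
      IsPullback.of_horiz_isIso ⟨by rw [Category.comp_id]; exact hy'⟩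
    have h3 := h2.paste_horiz h1
    rw [Category.id_comp] at h3
    exact h3
  let v : W ⟶ Spec M := toSpec W iMS
  have hv : v ≫ Spec.map iM = p ≫ U.ι := by
    rw [toSpec_map, hMS]
    exact toSpec_appTop f
  have hav : a ≫ v = j ≫ q := by
    rw [comp_toSpec, comp_toSpec]
    refine congrArg (toSpec _) (CommRingCat.hom_ext (RingHom.ext fun x => ?_))
    show a.appTop (iMS.hom x) = j.appTop (iMB.hom x)
    rw [← hβ, ← hMβ, he, map_one, one_mul]
  let φ : W ⟶ pullback (Spec.map iM) U.ι := pullback.lift v p hv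
  have hout : IsPullback ((a ≫ φ) ≫ pullback.fst (Spec.map iM) U.ι) b (Spec.map iM) (r ≫ U.ι) := by
    rw [Category.assoc, pullback.lift_fst, hav, sU.w]
    exact sqj.paste_horiz sqq
  have hcomm : (a ≫ φ) ≫ pullback.snd (Spec.map iM) U.ι = b ≫ r := by
    rw [Category.assoc, pullback.lift_snd]
    exact sW.w
  have hψ : IsPullback (a ≫ φ) b (pullback.snd (Spec.map iM) U.ι) r :=
    hout.of_right hcomm (IsPullback.of_hasPullback _ _)
  have sqφ : IsPullback a (𝟙 W') φ (a ≫ φ) := by
    refine IsPullback.of_bot ?_ (by rw [Category.id_comp]) hψ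
    rw [Category.id_comp, pullback.lift_snd]
    exact sW
  have hQ : (@Surjective ⊓ @Flat ⊓ @QuasiCompact : MorphismProperty Scheme.{u}) (a ≫ φ) :=
    ⟨⟨MorphismProperty.of_isPullback hψ.flip (MorphismProperty.of_isPullback sU.flip (inferInstanceAs (Surjective g))),
      MorphismProperty.of_isPullback hψ.flip (MorphismProperty.of_isPullback sU.flip (inferInstanceAs (Flat g)))⟩,
      MorphismProperty.of_isPullback hψ.flip (MorphismProperty.of_isPullback sU.flip (inferInstanceAs (QuasiCompact g)))⟩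
  haveI : IsIso φ :=
    MorphismProperty.of_isPullback_of_descendsAlong (P := MorphismProperty.isomorphisms Scheme.{u})
      (Q := @Surjective ⊓ @Flat ⊓ @QuasiCompact) sqφ.flip hQ (inferInstanceAs (IsIso (𝟙 W')))
  exact ⟨_, Spec.map iM, v, hM, IsPullback.of_iso_pullback ⟨hv⟩ (asIso φ) (pullback.lift_fst _ _ _)
    (pullback.lift_snd _ _ _)⟩

end PSPurity
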