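import Groth.Agent.PunctFEtLib.Punctured
import Groth.Agent.ClopenFFLib.AppBij

/-! # Open immersions with invisible image -/

set_option autoImplicit false
set_option linter.style.haveILetI false
set_option backward.isDefEq.respectTransparency false
set_option backward.isDefEq.respectTransparency.types false
set_option maxHeartbeats 1000000

universe u

open CategoryTheory CategoryTheory.Limits AlgebraicGeometry TopologicalSpace

noncomputable section

namespace PSPurity

theorem appTop_bijective_of_invisible {W T : Scheme.{u}} (j : W ⟶ T) [IsOpenImmersion j]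
    (h : PunctFEtLib.Invisible j.opensRange) : Function.Bijective j.appTop := by
  have hb : Function.Bijective j.opensRange.ι.appTop :=
    PunctFEtLib.map_bijective_of_eq h (S := j.opensRange.ι ''ᵁ ⊤) (T := ⊤) (by simp) le_top
  rw [show j = j.isoOpensRange.hom ≫ j.opensRange.ι from (Scheme.Hom.isoOpensRange_hom_ι j).symm,
    Scheme.Hom.comp_appTop]
  exact (ConcreteCategory.bijective_of_isIso j.isoOpensRange.hom.appTop).comp hb

theorem clopenBij_of_invisible {U' X : Scheme.{u}} (j : U' ⟶ X) [IsOpenImmersion j] [IsLocallyNoetherian X]
    (h : ∀ x : X, x ∉ Set.range j → (2 : ℕ∞) ≤ LocCoh.depth (X.presheaf.stalk x) (X.presheaf.stalk x)) :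
    ClopenFFLib.ClopenBij j := by
  intro Y C'
  let q : Y.left ⟶ X := Y.hom
  haveI : Etale q := Y.prop.2
  haveI : IsOpenImmersion (pullback.fst q j) := MorphismProperty.pullback_fst _ _ ‹IsOpenImmersion j›
  refine ClopenFFLib.existsUnique_clopen_of_appTop (pullback.fst q j) (appTop_bijective_of_invisible _ ?_) C'
  have : (pullback.fst q j).opensRange = q ⁻¹ᵁ j.opensRange :=
    TopologicalSpace.Opens.ext (Scheme.Pullback.range_fst q j)
  rw [this]
  exact PunctFEtLib.invisible_preimage q _ fun x hx => h x hx

end PSPurity
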