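import Groth.Agent.PSPurityLib.Fibre
import Groth.Agent.PSPurityLib.Open
import Groth.Agent.PSPurityLib.Descent
import Groth.Agent.PunctLefLib.Extend

/-! # Purity for power series rings over rings of depth two -/

set_option autoImplicit false
set_option linter.style.haveILetI false
set_option backward.isDefEq.respectTransparency false
set_option backward.isDefEq.respectTransparency.types false
set_option maxHeartbeats 1000000

universe u

open CategoryTheory CategoryTheory.Limits AlgebraicGeometry TopologicalSpace IsLocalRing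

noncomputable section

namespace PSPurity

set_option linter.unusedSectionVars false

variable (A : Type u) [CommRing A] [IsNoetherianRing A] [IsLocalRing A] (d : ℕ)

/-- The projection. -/
def prj : Spec (CommRingCat.of (MvPowerSeries (Fin d) A)) ⟶ Spec (CommRingCat.of A) :=
  Spec.map (CommRingCat.ofHom (MvPowerSeries.C (σ := Fin d) : A →+* MvPowerSeries (Fin d) A))

/-- The section `X = 0`. -/
def sec : Spec (CommRingCat.of A) ⟶ Spec (CommRingCat.of (MvPowerSeries (Fin d) A)) :=
  Spec.map (CommRingCat.ofHom (MvPowerSeries.constantCoeff : MvPowerSeries (Fin d) A →+* A))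

theorem sec_prj : sec A d ≫ prj A d = 𝟙 _ := by
  rw [sec, prj, ← Spec.map_comp, ← CommRingCat.ofHom_comp]
  have : (MvPowerSeries.constantCoeff : MvPowerSeries (Fin d) A →+* A).comp MvPowerSeries.C = RingHom.id A :=
    RingHom.ext fun a => by simp
  rw [this, CommRingCat.ofHom_id, Spec.map_id]

theorem prj_sec_apply (a : Spec (CommRingCat.of A)) : prj A d (sec A d a) = a := by
  rw [← Scheme.Hom.comp_apply, sec_prj]
  rfl

theorem prj_closed : prj A d (closedPoint (MvPowerSeries (Fin d) A)) = closedPoint A := by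
  haveI : IsLocalHom (MvPowerSeries.C (σ := Fin d) : A →+* MvPowerSeries (Fin d) A) :=
    ⟨fun a ha => by simpa using MvPowerSeries.isUnit_iff_constantCoeff.1 ha⟩
  exact IsLocalRing.comap_closedPoint _

/-- The preimage of the punctured spectrum. -/
abbrev VA : (Spec (CommRingCat.of (MvPowerSeries (Fin d) A))).Opens := prj A d ⁻¹ᵁ FEt.puncturedSpec A

theorem genPt_le_of_notMem {y : Spec (CommRingCat.of (MvPowerSeries (Fin d) A))} (hy : y ∉ VA A d) :
    genPt A d ≤ y.asIdeal := by
  have h : prj A d y = closedPoint A := not_not.1 hy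
  rw [genPt, Ideal.map_le_iff_le_comap]
  exact (congrArg PrimeSpectrum.asIdeal h).ge

theorem VA_le : VA A d ≤ FEt.puncturedSpec (MvPowerSeries (Fin d) A) := by
  intro y hy (h : y = closedPoint _)
  exact hy (show prj A d y = closedPoint A from h ▸ prj_closed A d)

theorem purity (hA : (2 : ℕ∞) ≤ LocCoh.depth A A) (hd : 1 ≤ d) : FEt.PurityHolds (MvPowerSeries (Fin d) A) := by
  refine ⟨fun W => ?_⟩
  haveI := CohenLib.isNoetherianRing_mvPowerSeries (n := d) A
  let UA := FEt.puncturedSpec A
  let UB := FEt.puncturedSpec (MvPowerSeries (Fin d) A)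
  let V := VA A d
  let π := prj A d
  let σ := sec A d
  have hσU : UA ≤ σ ⁻¹ᵁ UB := fun a ha => VA_le A d (show π (σ a) ∈ UA by rw [prj_sec_apply]; exact ha)
  let σU : (UA : Scheme.{u}) ⟶ UB := σ.resLE UB UA hσU
  let W₀ : FEt.Cat (UA : Scheme.{u}) := (FEt.restrict σU).obj W
  let jV : (V : Scheme.{u}) ⟶ UB := (Spec (CommRingCat.of _)).homOfLE (VA_le A d)
  let πV : (V : Scheme.{u}) ⟶ UA := π ∣_ UA
  have hπV : πV ≫ UA.ι = V.ι ≫ π := morphismRestrict_ι π UA
  have hjV : jV ≫ UB.ι = V.ι := Scheme.homOfLE_ι _ _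
  let i₀ := pullback.fst V.ι σ
  -- comparison over the preimage of the punctured spectrum
  have hi₀ : i₀ ≫ jV = (i₀ ≫ πV) ≫ σU := by
    rw [← cancel_mono UB.ι, Category.assoc, hjV, Category.assoc, Category.assoc, Scheme.Hom.resLE_comp_ι,
      reassoc_of% hπV, pullback.condition_assoc, pullback.condition]
    show _ = pullback.snd V.ι σ ≫ σ ≫ π ≫ σ
    rw [reassoc_of% (sec_prj A d : σ ≫ π = 𝟙 _)]
  have hff : (FEt.restrict i₀).Full ∧ (FEt.restrict i₀).Faithful :=
    ClopenFFLib.full_faithful _ (clopenBij_powerSeries A d hA V fun y hy hne => by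
      by_contra hyV
      exact hne (PrimeSpectrum.ext (eq_maximal_of_le A d y.isPrime (genPt_le_of_notMem A d hyV) hy)))
  obtain ⟨hfull, hfaith⟩ := hff
  let e₁ : (FEt.restrict jV).obj W ≅ (FEt.restrict πV).obj W₀ :=
    (FEt.restrict i₀).preimageIso (PunctLefLib.restrictComp i₀ jV W ≪≫ PunctLefLib.restrictCongr hi₀ W ≪≫
      (PunctLefLib.restrictComp (i₀ ≫ πV) σU W).symm ≪≫ (PunctLefLib.restrictComp i₀ πV W₀).symm)
  -- extension over the local ring at the generic point of the closed fibre
  let R := Localization.AtPrime (genPt A d)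
  haveI := flat_powerSeries A d
  have hAR : algebraMap A R = (algebraMap (MvPowerSeries (Fin d) A) R).comp MvPowerSeries.C := by
    rw [IsScalarTower.algebraMap_eq A (MvPowerSeries (Fin d) A) R]
    exact congrArg _ (RingHom.ext fun a => by simp [MvPowerSeries.algebraMap_apply])
  haveI : Module.Flat A R := Module.Flat.trans A (MvPowerSeries (Fin d) A) R
  haveI : IsLocalHom (algebraMap A R) := ⟨fun a ha => by
    by_contra hn
    have h1 : MvPowerSeries.C a ∈ genPt A d := Ideal.mem_map_of_mem _ hn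
    rw [hAR] at ha
    exact (IsLocalization.AtPrime.to_map_mem_maximal_iff R (genPt A d) _).2 h1 ha⟩
  haveI : Module.FaithfullyFlat A R := Module.FaithfullyFlat.of_flat_of_isLocalHom
  haveI : IsNoetherianRing R := IsLocalization.isNoetherianRing (genPt A d).primeCompl R inferInstance
  let ψ : Spec (CommRingCat.of R) ⟶ Spec (CommRingCat.of (MvPowerSeries (Fin d) A)) :=
    Spec.map (CommRingCat.ofHom (algebraMap (MvPowerSeries (Fin d) A) R))
  let g : Spec (CommRingCat.of R) ⟶ Spec (CommRingCat.of A) := Spec.map (CommRingCat.ofHom (algebraMap A R))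
  have hg : g = ψ ≫ π := by
    show Spec.map _ = Spec.map _ ≫ Spec.map _
    rw [← Spec.map_comp, hAR]
    rfl
  have hψ : Set.range ψ ⊆ Set.range UB.ι := by
    rintro _ ⟨q, rfl⟩
    rw [Scheme.Opens.range_ι]
    intro (h : ψ q = closedPoint _)
    have h1 : maximalIdeal _ = q.asIdeal.comap (algebraMap (MvPowerSeries (Fin d) A) R) :=
      (congrArg PrimeSpectrum.asIdeal h).symm
    have h2 : maximalIdeal (MvPowerSeries (Fin d) A) ≤ genPt A d := by
      rw [h1]
      refine (Ideal.comap_mono (le_maximalIdeal q.isPrime.ne_top)).trans (le_of_eq ?_)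
      exact Localization.AtPrime.under_maximalIdeal
    exact X_notMem_genPt A d ⟨0, hd⟩ (h2 (vars_mem_maximalIdeal A d _
      (List.mem_map_of_mem (List.mem_finRange _))))
  let ψU : Spec (CommRingCat.of R) ⟶ UB := IsOpenImmersion.lift UB.ι ψ hψ
  have hψU : ψU ≫ UB.ι = ψ := IsOpenImmersion.lift_fac _ _ _
  let r := pullback.fst UA.ι g
  let s := pullback.snd UA.ι g
  have hlam : Set.range (s ≫ ψ) ⊆ Set.range V.ι := by
    rintro _ ⟨z, rfl⟩
    rw [Scheme.Opens.range_ι]
    show π ((s ≫ ψ) z) ∈ UA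
    rw [← Scheme.Hom.comp_apply, Category.assoc, ← hg, ← pullback.condition, Scheme.Hom.comp_apply]
    exact (r z).2
  let lam := IsOpenImmersion.lift V.ι (s ≫ ψ) hlam
  have hlam' : lam ≫ V.ι = s ≫ ψ := IsOpenImmersion.lift_fac _ _ _
  have hsq₁ : s ≫ ψU = lam ≫ jV := by
    rw [← cancel_mono UB.ι, Category.assoc, Category.assoc, hψU, hjV, hlam']
  have hsq₂ : lam ≫ πV = r := by
    rw [← cancel_mono UA.ι, Category.assoc, hπV, reassoc_of% hlam', ← hg]
    exact pullback.condition.symm
  let Y' := (FEt.restrict ψU).obj W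
  let e' : (FEt.restrict s).obj Y' ≅ (FEt.restrict r).obj W₀ :=
    PunctLefLib.restrictSq hsq₁ W ≪≫ (FEt.restrict lam).mapIso e₁ ≪≫
      PunctLefLib.restrictComp lam πV W₀ ≪≫ PunctLefLib.restrictCongr hsq₂ W₀
  let y : Y'.left ⟶ Spec (CommRingCat.of R) := Y'.hom
  have sqj : IsPullback (e'.inv.left ≫ pullback.fst y s) (pullback.snd W₀.hom r) y s :=
    PurityGlueLib.isPullback_of_iso e'
  haveI : IsOpenImmersion s := MorphismProperty.pullback_snd _ _ (inferInstanceAs (IsOpenImmersion UA.ι))
  haveI : IsOpenImmersion (e'.inv.left ≫ pullback.fst y s) :=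
    MorphismProperty.of_isPullback (P := @IsOpenImmersion) sqj.flip inferInstance
  have hs : Set.range s = (FEt.puncturedSpec R : Set ↥(Spec (CommRingCat.of R))) := by
    rw [Scheme.Pullback.range_snd, Scheme.Opens.range_ι]
    refine Set.ext fun q => not_congr ⟨fun (h : g q = closedPoint A) => ?_, fun (h : q = closedPoint R) => ?_⟩
    · refine PrimeSpectrum.ext ((maximalIdeal.isMaximal R).eq_of_le q.isPrime.ne_top ?_).symm
      rw [← Localization.AtPrime.map_eq_maximalIdeal, Ideal.map_le_iff_le_comap]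
      refine Ideal.map_le_iff_le_comap.2 fun a ha => ?_
      show ((algebraMap (MvPowerSeries (Fin d) A) R).comp MvPowerSeries.C) a ∈ q.asIdeal
      rw [← hAR]
      exact (congrArg PrimeSpectrum.asIdeal h).ge ha
    · show g q = closedPoint A
      rw [h]
      exact IsLocalRing.comap_closedPoint (algebraMap A R)
  have hbij : Function.Bijective (e'.inv.left ≫ pullback.fst y s).appTop := by
    refine appTop_bijective_of_invisible _ ?_
    have : (e'.inv.left ≫ pullback.fst y s).opensRange = y ⁻¹ᵁ FEt.puncturedSpec R := by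
      have hh : Set.range (e'.inv.left ≫ pullback.fst y s) = y ⁻¹' Set.range s := by
        rw [← sqj.isoPullback_hom_fst, Scheme.Hom.comp_base, TopCat.coe_comp, Set.range_comp,
          Set.range_eq_univ.2 sqj.isoPullback.hom.surjective, Set.image_univ, Scheme.Pullback.range_fst]
      exact TopologicalSpace.Opens.ext (hh.trans (congrArg (y ⁻¹' ·) hs))
    rw [this]
    exact PunctFEtLib.invisible_punctured R (two_le_depth_of_genPt_le A d hA (genPt A d) le_rfl) Y'
  obtain ⟨Z, z, k, hz, hk⟩ := exists_isPullback_of_extends UA W₀.hom W₀.prop y Y'.prop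
    (IsPullback.of_hasPullback UA.ι g) (IsPullback.of_hasPullback W₀.hom r) sqj hbij
  let E₀ : FEt.Cat (Spec (CommRingCat.of A)) := MorphismProperty.Over.mk ⊤ z hz
  obtain ⟨eA⟩ : Nonempty ((FEt.restrict UA.ι).obj E₀ ≅ W₀) := PurityGlueLib.nonempty_iso_of_isPullback hk
  refine ⟨(FEt.restrict π).obj E₀, ⟨?_⟩⟩
  -- restriction to the preimage of the punctured spectrum is fully faithful
  obtain ⟨_, _⟩ := ClopenFFLib.full_faithful jV (clopenBij_of_invisible jV fun x hx => by
    rw [PunctFEtLib.depth_stalk_etale UB.ι x, PunctFEtLib.depth_stalk_spec]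
    refine two_le_depth_of_genPt_le A d hA _ (genPt_le_of_notMem A d fun hxV => hx ⟨⟨UB.ι x, hxV⟩, ?_⟩)
    refine UB.ι.isOpenEmbedding.injective ?_
    rw [← Scheme.Hom.comp_apply, hjV]
    rfl)
  have hsq₃ : jV ≫ UB.ι ≫ π = πV ≫ UA.ι := by rw [reassoc_of% hjV, hπV]
  exact (FEt.restrict jV).preimageIso ((FEt.restrict jV).mapIso (PunctLefLib.restrictComp UB.ι π E₀) ≪≫
    PunctLefLib.restrictSq hsq₃ E₀ ≪≫ (FEt.restrict πV).mapIso eA ≪≫ e₁.symm)

end PSPurity
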